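import Groth.Agent.H24Algz4.ProQuot
import Groth.Agent.H24Formal.SpecComplete
import Groth.Agent.H24Formal.Pullback
import Groth.Agent.H24Formal.ProIso
import Groth.Prelude.Def_Algz

/-!
Canonical extension of a system with Mittag-Leffler sections and adic limit topology.
-/

set_option autoImplicit false
set_option linter.style.haveILetI false

universe u

open CategoryTheory CategoryTheory.Limits AlgebraicGeometry Opposite TopologicalSpace

namespace Groth.Agent.H24Algz4

open Groth.Agent.H24Formal

variable (A : Type u) [CommRing A]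

local notation "SpecA" => Spec (CommRingCat.of A)
local notation "ΓA" => moduleSpecΓFunctor (R := CommRingCat.of A)

variable [(Spec (CommRingCat.of A)).Over (Spec (CommRingCat.of A))]
    (hover : (Spec (CommRingCat.of A)) ↘ (Spec (CommRingCat.of A)) = 𝟙 _)

include hover

/-- The scalar action on the sections over the whole spectrum is `smulMod`. -/
theorem smul_eq_smulMod_app (N : (Spec (CommRingCat.of A)).Modules) (a : A) (x : (ΓA).obj N) :
    a • x = (ΓA).map (Formal.smulMod A N a) x := by
  refine Eq.trans ?_ (smulMod_app (A := A) N a ⊤ x).symm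
  simp only [scalA, Coh.toGlobal, hover]
  rfl

theorem killedBy_tilde (J : Ideal A) (L : ModuleCat.{u} A) (h : ∀ a ∈ J, ∀ x : L, a • x = 0) :
    Formal.KilledBy J (tilde (R := CommRingCat.of A) L) := fun a ha => by
  let adj := tilde.adjunction (R := CommRingCat.of A)
  apply (adj.homEquiv _ _).injective
  rw [Adjunction.homEquiv_unit, Adjunction.homEquiv_unit]
  refine ModuleCat.hom_ext (LinearMap.ext fun x => ?_)
  refine ((smul_eq_smulMod_app A hover _ a (adj.unit.app L x)).symm.trans ?_)
  refine ((map_smul (adj.unit.app L).hom a x).symm.trans ?_)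
  rw [h a ha x, map_zero]
  exact rfl

theorem smulMod_ΓA_eq_zero {J : Ideal A} {N : (Spec (CommRingCat.of A)).Modules} (hN : Formal.KilledBy J N)
    {a : A} (ha : a ∈ J) (x : (ΓA).obj N) : a • x = 0 := by
  rw [smul_eq_smulMod_app A hover N a x, hN a ha]
  rfl

omit hover in
theorem killedBy_cokernel_smul (J : Ideal A) (X : (Spec (CommRingCat.of A)).Modules) :
    Formal.KilledBy J (cokernel (Formal.smulFamily (A := A) J X)) := fun a ha => by
  refine coequalizer.hom_ext ?_
  refine (smulMod_comm (cokernel.π (Formal.smulFamily (A := A) J X)) a).symm.trans ?_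
  have h1 := Sigma.ι (fun _ : J => X) ⟨a, ha⟩ ≫= cokernel.condition (Formal.smulFamily (A := A) J X)
  simp only [Formal.smulFamily, Sigma.ι_desc_assoc] at h1
  exact (h1.trans comp_zero).trans comp_zero.symm

variable (I : Ideal A) (M : ModuleCat.{u} A)

omit [(Spec (CommRingCat.of A)).Over (Spec (CommRingCat.of A))] hover in
theorem killed_quotPow (n : ℕ) {a : A} (ha : a ∈ I ^ (n + 1)) (x : Formal2.quotPow A I M n) : a • x = 0 := by
  obtain ⟨x, rfl⟩ := Submodule.Quotient.mk_surjective _ x
  exact (Submodule.Quotient.mk_smul _ a x).symm.trans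
    ((Submodule.Quotient.mk_eq_zero _).2 (Submodule.smul_mem_smul ha Submodule.mem_top))

omit I M in
/-- A surjection killing exactly the `J`-multiples becomes the quotient modulo `J` under tilde. -/
theorem isIso_desc_tilde (J : Ideal A) {X Y : ModuleCat.{u} A} (τ : X ⟶ Y) (hY : ∀ a ∈ J, ∀ y : Y, a • y = 0)
    (hs : Function.Surjective τ.hom) (hk : ∀ x : X, τ.hom x = 0 → x ∈ J • (⊤ : Submodule A X)) :
    ∃ h : Formal.smulFamily J (tilde (R := CommRingCat.of A) X) ≫ tilde.map (R := CommRingCat.of A) τ = 0,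
      IsIso (cokernel.desc _ _ h) := by
  let φ : tilde (R := CommRingCat.of A) X ⟶ tilde (R := CommRingCat.of A) Y := tilde.map (R := CommRingCat.of A) τ
  have hz : Formal.smulFamily J (tilde (R := CommRingCat.of A) X) ≫ φ = 0 :=
    smulFamily_comp_eq_zero φ (killedBy_tilde A hover J Y hY)
  refine ⟨hz, ?_⟩
  let K : Submodule A X := J • ⊤
  have hK : ∀ x : X, τ.hom x = 0 ↔ x ∈ K := fun x => ⟨hk x, fun hx => by
    refine Submodule.smul_induction_on hx (fun b hb y _ => ?_) fun p r hp hr => ?_
    · rw [map_smul]; exact hY b hb _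
    · rw [map_add, hp, hr, add_zero]⟩
  let T : ShortComplex (ModuleCat.{u} A) := ShortComplex.mk (ModuleCat.ofHom K.subtype) τ
    (ModuleCat.hom_ext (LinearMap.ext fun x => (hK x).2 x.2))
  have hTs : T.ShortExact := ShortComplex.ShortExact.mk' (S := T)
    ((ShortComplex.moduleCat_exact_iff T).2 fun x hx => ⟨⟨x, (hK x).1 hx⟩, rfl⟩)
    ((ModuleCat.mono_iff_injective _).2 Subtype.val_injective)
    ((ModuleCat.epi_iff_surjective _).2 hs)
  have hT := hTs.map_of_exact (tilde.functor (CommRingCat.of A))
  obtain ⟨g, hg⟩ := CokernelCofork.IsColimit.desc' hT.gIsCokernel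
    (cokernel.π (Formal.smulFamily J (tilde (R := CommRingCat.of A) X)))
    (tilde_comp_eq_zero A J hover _ (killedBy_cokernel_smul A J _) _)
  have hg' : φ ≫ g = cokernel.π (Formal.smulFamily J (tilde (R := CommRingCat.of A) X)) := hg
  haveI := hT.epi_g
  haveI : Epi φ := ‹Epi (T.map (tilde.functor (CommRingCat.of A))).g›
  refine ⟨g, coequalizer.hom_ext ?_, ?_⟩
  · refine (Category.assoc _ _ _).symm.trans ((congrArg (· ≫ g) (cokernel.π_desc _ _ _)).trans ?_)
    exact hg'.trans (Category.comp_id _).symm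
  · refine (cancel_epi φ).1 ((Category.assoc _ _ _).symm.trans ((congrArg (· ≫ cokernel.desc _ φ hz) hg').trans ?_))
    exact (cokernel.π_desc _ _ _).trans (Category.comp_id _).symm

theorem isIso_quot_tilde (n : ℕ) :
    ∃ h : Formal.smulFamily (I ^ (n + 1)) (tilde (R := CommRingCat.of A) ((quotFun I M).obj (op (n + 1)))) ≫
        (quotFun I M ⋙ tilde.functor (CommRingCat.of A)).map (homOfLE (Nat.le_succ n)).op = 0,
      IsIso (cokernel.desc _ _ h) := by
  refine isIso_desc_tilde A hover (I ^ (n + 1)) ((quotFun I M).map (homOfLE (Nat.le_succ n)).op)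
    (fun a ha y => killed_quotPow A I M n ha y) ?_ ?_
  · rw [quotFun_map_succ]
    intro (y : Formal2.quotPow A I M n)
    obtain ⟨y, rfl⟩ := Submodule.Quotient.mk_surjective _ y
    exact ⟨(Submodule.Quotient.mk y : Formal2.quotPow A I M (n + 1)), rfl⟩
  · rw [quotFun_map_succ]
    intro (x : Formal2.quotPow A I M (n + 1)) hx
    obtain ⟨x, rfl⟩ := Submodule.Quotient.mk_surjective _ x
    have hx' : x ∈ I ^ (n + 1) • (⊤ : Submodule A M) := (Submodule.Quotient.mk_eq_zero _).1 hx
    have : Submodule.map (Submodule.mkQ (I ^ (n + 1 + 1) • (⊤ : Submodule A M))) (I ^ (n + 1) • ⊤) =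
        I ^ (n + 1) • (⊤ : Submodule A (Formal2.quotPow A I M (n + 1))) := by
      rw [Submodule.map_smul'', Submodule.map_top, Submodule.range_mkQ]
    exact this.le ⟨x, hx', rfl⟩

theorem isCohFormal_quot [IsNoetherianRing A] (hfin : ∀ n, Module.Finite A (Formal2.quotPow A I M n)) :
    Formal.IsCohFormal I (quotFun I M ⋙ tilde.functor (CommRingCat.of A)) := by
  refine ⟨fun n => ?_, fun n => killedBy_tilde A hover _ _ fun a ha x => killed_quotPow A I M n ha x,
    fun n => isIso_quot_tilde A hover I M n⟩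
  haveI : Module.Finite (CommRingCat.of A) (ModuleCat.of A (Formal2.quotPow A I M n)) := hfin n
  haveI : IsNoetherianRing (CommRingCat.of A) := ‹IsNoetherianRing A›
  exact H10Coh.isCoh_tilde (R := CommRingCat.of A) (ModuleCat.of A (Formal2.quotPow A I M n))

omit hover in
/-- Sections of the terms of a formal module over an open are killed by the powers of the ideal. -/
theorem sectMod_killed (hover : (Spec (CommRingCat.of A)) ↘ (Spec (CommRingCat.of A)) = 𝟙 _)
    (U : (Spec (CommRingCat.of A)).Opens) (G : ℕᵒᵖ ⥤ (U : Scheme.{u}).Modules)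
    [(U : Scheme.{u}).Over (Spec (CommRingCat.of A))]
    (hU : U.ι ≫ ((Spec (CommRingCat.of A)) ↘ (Spec (CommRingCat.of A))) = (U : Scheme.{u}) ↘ Spec (CommRingCat.of A))
    (hG : ∀ n, Formal.KilledBy (A := A) (I ^ (n + 1)) (G.obj (op n))) (n : ℕ) :
    ∀ a ∈ I ^ (n + 1), ∀ x : (Algz.sectMod A U G).obj (op n), a • x = 0 := fun a ha x => by
  refine smulMod_ΓA_eq_zero A hover (J := I ^ (n + 1))
    (N := (Scheme.Modules.pushforward U.ι).obj (G.obj (op n))) (fun b hb => ?_) ha x
  rw [← pushforward_map_smulMod U.ι hU, hG n b hb, Functor.map_zero]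

end Groth.Agent.H24Algz4
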