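import Groth.Agent.H24Formal.ProLimit
import Groth.Prelude.Def_Formal2

/-!
A Mittag-Leffler system whose limit topology is adic is pro-isomorphic to the system of adic quotients of its limit.
-/

set_option autoImplicit false
set_option linter.style.haveILetI false

universe u

open CategoryTheory CategoryTheory.Limits Opposite

namespace Groth.Agent.H24Algz4

open Groth.Agent.H24Formal

variable {A : Type u} [CommRing A]

theorem exists_of_imageSubobject_eq {X X' Y : ModuleCat.{u} A} (f : X ⟶ Y) (g : X' ⟶ Y)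
    (h : imageSubobject f = imageSubobject g) (x : X) : ∃ w : X', g w = f x := by
  haveI : Epi (factorThruImageSubobject g) := inferInstance
  obtain ⟨w, hw⟩ := (ModuleCat.epi_iff_surjective (factorThruImageSubobject g)).1 inferInstance
    ((factorThruImageSubobject f ≫ Subobject.ofLE _ _ h.le) x)
  refine ⟨w, ?_⟩
  have h1 := congr($(imageSubobject_arrow_comp g) w)
  have h2 := congr($(imageSubobject_arrow_comp f) x)
  refine h1.symm.trans (Eq.trans ?_ h2)
  show (imageSubobject g).arrow (factorThruImageSubobject g w) = (imageSubobject f).arrow (factorThruImageSubobject f x)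
  rw [hw]
  exact congr($(Subobject.ofLE_arrow h.le) (factorThruImageSubobject f x))

theorem tr_apply (Y : ℕᵒᵖ ⥤ ModuleCat.{u} A) {n m l : ℕ} (h : n ≤ m) (h' : m ≤ l) (x : Y.obj (op l)) :
    (Y.map (homOfLE h).op) ((Y.map (homOfLE h').op) x) = (Y.map (homOfLE (h.trans h')).op) x :=
  congr($((Y.map_comp (homOfLE h').op (homOfLE h).op).symm) x)

/-- In a Mittag-Leffler system the stable images lift to the limit. -/
theorem exists_stable (Y : ℕᵒᵖ ⥤ ModuleCat.{u} A) (ha : ARSys.IsML Y) (n : ℕ) :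
    ∃ (N : ℕ) (h : n ≤ N), ∀ x : Y.obj (op N), ∃ z : ↑(limit Y), (limit.π Y (op n)).hom z = (Y.map (homOfLE h).op) x := by
  choose r hr using ha
  let Im : ∀ p, Y.obj (op p) → Prop := fun p y => ∃ w, (Y.map (homOfLE (Nat.le_add_right p (r p))).op) w = y
  have hIm : ∀ p s, r p ≤ s → ∀ w : Y.obj (op (p + s)), Im p ((Y.map (homOfLE (Nat.le_add_right p s)).op) w) :=
    fun p s hs w => exists_of_imageSubobject_eq (ARSys.shiftMap Y s p) (ARSys.shiftMap Y (r p) p) (hr p s hs) w
  have hIm' : ∀ p s (y : Y.obj (op p)), r p ≤ s → Im p y → ∃ w, (Y.map (homOfLE (Nat.le_add_right p s)).op) w = y := by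
    intro p s y hs hy
    obtain ⟨w, rfl⟩ := hy
    exact exists_of_imageSubobject_eq (ARSys.shiftMap Y (r p) p) (ARSys.shiftMap Y s p) (hr p s hs).symm w
  have hup : ∀ p (y : Y.obj (op p)), Im p y → ∃ y', Im (p + 1) y' ∧ (Y.map (homOfLE (Nat.le_succ p)).op) y' = y := by
    intro p y hy
    obtain ⟨w, hw⟩ := hIm' p (r p + (r (p + 1) + 1)) y (Nat.le_add_right _ _) hy
    have e : p + (r p + (r (p + 1) + 1)) = p + 1 + (r p + r (p + 1)) := by omega
    refine ⟨(Y.map (homOfLE (by omega : p + 1 ≤ p + (r p + (r (p + 1) + 1)))).op) w, ?_, ?_⟩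
    · obtain ⟨w', hw'⟩ : ∃ w' : Y.obj (op (p + 1 + (r p + r (p + 1)))),
          (Y.map (homOfLE (le_of_eq e)).op) w' = w :=
        ⟨(Y.map (homOfLE (le_of_eq e.symm)).op) w, by rw [tr_apply]; exact congr($(Y.map_id _) w)⟩
      rw [← hw', tr_apply]
      exact hIm (p + 1) _ (Nat.le_add_left _ _) w'
    · rw [tr_apply]
      exact hw
  refine ⟨n + r n, Nat.le_add_right n (r n), fun x => ?_⟩
  choose up hupI hupT using hup
  let z : ∀ j : ℕ, {y : Y.obj (op (n + j)) // Im (n + j) y} := fun j => Nat.rec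
    ⟨(Y.map (homOfLE (Nat.le_add_right n (r n))).op) x, x, rfl⟩
    (fun j y => ⟨up (n + j) y.1 y.2, hupI (n + j) y.1 y.2⟩) j
  have hz : ∀ j, (Y.map (homOfLE (Nat.le_succ (n + j))).op) (z (j + 1)).1 = (z j).1 := fun j =>
    hupT (n + j) (z j).1 (z j).2
  obtain ⟨t, ht⟩ := exists_limit_mod_succ Y (fun m => (Y.map (homOfLE (Nat.le_add_left m n)).op) (z m).1) fun m => by
    show (Y.map (homOfLE (Nat.le_succ m)).op) ((Y.map (homOfLE (Nat.le_add_left (m + 1) n)).op) (z (m + 1)).1) = _
    rw [← hz m, tr_apply, tr_apply]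
  refine ⟨t, (ht n).trans ?_⟩
  have key : ∀ j, (Y.map (homOfLE (Nat.le_add_right n j)).op) (z j).1 = (Y.map (homOfLE (Nat.le_add_right n (r n))).op) x := by
    intro j
    induction j with
    | zero => exact congr($(Y.map_id _) ((Y.map (homOfLE (Nat.le_add_right n (r n))).op) x))
    | succ j ih => rw [← ih, ← hz j, tr_apply]
  exact key n

variable (I : Ideal A) (Y : ℕᵒᵖ ⥤ ModuleCat.{u} A)

/-- The system of adic quotients of a module. -/
noncomputable def quotFun (M : Type u) [AddCommGroup M] [Module A M] : ℕᵒᵖ ⥤ ModuleCat.{u} A :=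
  Functor.ofOpSequence (X := fun n => ModuleCat.of A (Formal2.quotPow A I M n)) fun n =>
    ModuleCat.ofHom (Formal2.quotPowTrans A I M n)

theorem quotFun_map_succ (M : Type u) [AddCommGroup M] [Module A M] (n : ℕ) :
    (quotFun I M).map (homOfLE (Nat.le_succ n)).op = ModuleCat.ofHom (Formal2.quotPowTrans A I M n) :=
  Functor.ofOpSequence_map_homOfLE_succ _ n

theorem quotFun_map_mk (M : Type u) [AddCommGroup M] [Module A M] {n m : ℕ} (h : n ≤ m) (x : M) :
    ((quotFun I M).map (homOfLE h).op) (Submodule.Quotient.mk x : Formal2.quotPow A I M m) =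
      (Submodule.Quotient.mk x : Formal2.quotPow A I M n) := by
  induction m, h using Nat.le_induction with
  | base => exact congr($((quotFun I M).map_id _) (Submodule.Quotient.mk x))
  | succ m h ih =>
    have e := congr($((quotFun I M).map_comp (homOfLE (Nat.le_succ m)).op (homOfLE h).op)
      (Submodule.Quotient.mk x : Formal2.quotPow A I M (m + 1)))
    refine (Eq.trans ?_ e).trans ?_
    · exact congr($(congrArg (quotFun I M).map (Subsingleton.elim _ _)) _)
    show ((quotFun I M).map (homOfLE h).op) (((quotFun I M).map (homOfLE (Nat.le_succ m)).op) _) = _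
    rw [quotFun_map_succ]
    exact ih

/-- The pro-isomorphism with the adic quotients of the limit, and their finiteness. -/
theorem isProIsomorphic_quot [IsNoetherianRing A] (hk : ∀ n, ∀ a ∈ I ^ (n + 1), ∀ x : Y.obj (op n), a • x = 0)
    (ha : ARSys.IsML Y)
    (hb : ∀ k : ℕ, ∃ n : ℕ, LinearMap.ker (limit.π Y (op n)).hom ≤ I ^ k • (⊤ : Submodule A ↑(limit Y)))
    (hc : ∀ n : ℕ, Module.Finite A ↥(LinearMap.range (limit.π Y (op n)).hom)) :
    (∀ n, Module.Finite A (Formal2.quotPow A I ↑(limit Y) n)) ∧ Algz.IsProIsomorphic Y (quotFun I ↑(limit Y)) := by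
  classical
  let M : Type u := ↑(limit Y)
  choose k0 hk0 using fun n => hb (n + 1)
  let k : ℕ → ℕ := fun n => max n ((Finset.range (n + 1)).sup k0)
  have hkm : Monotone k := fun a b h => max_le_max h (Finset.sup_mono (Finset.range_subset_range.2 (Nat.succ_le_succ h)))
  have hker : ∀ n, ∀ z : M, (limit.π Y (op (k n))).hom z = 0 → z ∈ I ^ (n + 1) • (⊤ : Submodule A M) := by
    intro n z hz
    refine hk0 n ?_
    have hle : k0 n ≤ k n := le_max_of_le_right (Finset.le_sup (Finset.mem_range.2 (Nat.lt_succ_self n)))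
    show (limit.π Y (op (k0 n))).hom z = 0
    rw [← limit_π_map Y hle z, hz, map_zero]
  have hkle : ∀ n, n ≤ k n := fun n => le_max_left _ _
  choose m0 hm0le hm0 using fun n => exists_stable Y ha (k n)
  let m : ℕ → ℕ := fun n => (Finset.range (n + 1)).sup m0
  have hmm : Monotone m := fun a b h => Finset.sup_mono (Finset.range_subset_range.2 (Nat.succ_le_succ h))
  have hm0m : ∀ n, m0 n ≤ m n := fun n => Finset.le_sup (Finset.mem_range.2 (Nat.lt_succ_self n))
  have hkm' : ∀ n, k n ≤ m n := fun n => (hm0le n).trans (hm0m n)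
  have hlift : ∀ n (y : Y.obj (op (m n))), (Y.map (homOfLE (hkm' n)).op) y ∈ LinearMap.range (limit.π Y (op (k n))).hom := by
    intro n y
    obtain ⟨z, hz⟩ := hm0 n ((Y.map (homOfLE (hm0m n)).op) y)
    exact ⟨z, hz.trans (tr_apply Y _ _ y)⟩
  have hfac : ∀ n, LinearMap.ker (limit.π Y (op (k n))).hom ≤ I ^ (n + 1) • (⊤ : Submodule A M) :=
    fun n z hz => hker n z hz
  have hkill : ∀ j, I ^ (j + 1) • (⊤ : Submodule A M) ≤ LinearMap.ker (limit.π Y (op j)).hom := fun j =>
    Submodule.smul_le.2 fun b hb z _ => by rw [LinearMap.mem_ker, map_smul]; exact hk j b hb _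
  let a0 : ∀ n, Y.obj (op (m n)) →ₗ[A] Formal2.quotPow A I M n := fun n =>
    (Submodule.factor (hfac n)) ∘ₗ
      (LinearMap.quotKerEquivRange (limit.π Y (op (k n))).hom).symm.toLinearMap ∘ₗ
        LinearMap.codRestrict _ (Y.map (homOfLE (hkm' n)).op).hom (hlift n)
  have ha0 : ∀ n (y : Y.obj (op (m n))) (z : M), (limit.π Y (op (k n))).hom z = (Y.map (homOfLE (hkm' n)).op) y →
      a0 n y = Submodule.Quotient.mk z := by
    intro n y z hz
    show Submodule.factor (hfac n) ((LinearMap.quotKerEquivRange _).symm (LinearMap.codRestrict _ _ (hlift n) y)) = _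
    rw [show LinearMap.codRestrict _ (Y.map (homOfLE (hkm' n)).op).hom (hlift n) y =
      ⟨(limit.π Y (op (k n))).hom z, z, rfl⟩ from Subtype.ext hz.symm,
      show (LinearMap.quotKerEquivRange (limit.π Y (op (k n))).hom).symm ⟨(limit.π Y (op (k n))).hom z, z, rfl⟩ =
        Submodule.Quotient.mk z from LinearMap.quotKerEquivRange_symm_apply_image _ z _]
    rfl
  refine ⟨fun n => ?_, m, hmm, fun n => (hkle n).trans (hkm' n),
    NatTrans.ofOpSequence (fun n => ModuleCat.ofHom (a0 n)) fun n => ?_, fun n => ?_⟩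
  · haveI := hc (k n)
    let q : LinearMap.range (limit.π Y (op (k n))).hom →ₗ[A] Formal2.quotPow A I M n :=
      (Submodule.factor (hfac n)) ∘ₗ
      (LinearMap.quotKerEquivRange (limit.π Y (op (k n))).hom).symm.toLinearMap
    refine Module.Finite.of_surjective q fun z => ?_
    obtain ⟨z, rfl⟩ := Submodule.Quotient.mk_surjective _ z
    refine ⟨⟨_, z, rfl⟩, ?_⟩
    show Submodule.factor (hfac n) ((LinearMap.quotKerEquivRange _).symm _) = _
    rw [LinearMap.quotKerEquivRange_symm_apply_image]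
    rfl
  · refine ModuleCat.hom_ext (LinearMap.ext fun (y : Y.obj (op (m (n + 1)))) => ?_)
    show a0 n ((Y.map (homOfLE (hmm (Nat.le_succ n))).op) y) = ((quotFun I M).map (homOfLE (Nat.le_succ n)).op) (a0 (n + 1) y)
    obtain ⟨z, hz⟩ := hlift (n + 1) y
    rw [ha0 (n + 1) y z hz, quotFun_map_mk]
    refine ha0 n _ z ?_
    rw [← limit_π_map Y (hkm (Nat.le_succ n)) z, hz, tr_apply, tr_apply]
  · refine ⟨m n, (hkle n).trans (hkm' n), ModuleCat.ofHom (Submodule.liftQ _ (limit.π Y (op (m n))).hom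
      (hkill (m n))), ?_, ?_⟩
    · refine ModuleCat.hom_ext (LinearMap.ext fun (y : Y.obj (op (m (m n)))) => ?_)
      obtain ⟨z, hz⟩ := hlift (m n) y
      show Submodule.liftQ _ (limit.π Y (op (m n))).hom (hkill (m n)) (a0 (m n) y) = (Y.map (homOfLE (hmm ((hkle n).trans (hkm' n)))).op) y
      rw [ha0 (m n) y z hz, Submodule.liftQ_apply, ← limit_π_map Y (hkle (m n)) z, hz, tr_apply]
    · refine ModuleCat.hom_ext (LinearMap.ext fun (w : Formal2.quotPow A I M (m n)) => ?_)
      obtain ⟨z, rfl⟩ := Submodule.Quotient.mk_surjective _ w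
      show a0 n (Submodule.liftQ _ (limit.π Y (op (m n))).hom (hkill (m n)) (Submodule.Quotient.mk z)) =
        ((quotFun I M).map (homOfLE ((hkle n).trans (hkm' n))).op) (Submodule.Quotient.mk z)
      rw [quotFun_map_mk, Submodule.liftQ_apply]
      exact ha0 n _ z (limit_π_map Y (hkm' n) z).symm

end Groth.Agent.H24Algz4
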